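import Groth.Agent.BigEt.General

/-! # Natural comparison of derived functors with exact functors -/

set_option autoImplicit false
set_option linter.all false
set_option backward.isDefEq.respectTransparency false
set_option backward.defeqAttrib.useBackward true

noncomputable section

universe v₁ v₂ v₃ u₁ u₂ u₃

open CategoryTheory CategoryTheory.Limits

namespace Groth.Agent.RDerNat

variable {A : Type u₁} [Category.{v₁} A] [Abelian A] {B : Type u₂} [Category.{v₂} B] [Abelian B]
  {D : Type u₃} [Category.{v₃} D] [Abelian D] [HasInjectiveResolutions A]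

lemma exists_desc {X Y : A} (f : X ⟶ Y) :
    ∃ φ : (injectiveResolution X).cocomplex ⟶ (injectiveResolution Y).cocomplex,
      (injectiveResolution X).ι.f 0 ≫ φ.f 0 = f ≫ (injectiveResolution Y).ι.f 0 :=
  ⟨InjectiveResolution.desc f (injectiveResolution Y) (injectiveResolution X), InjectiveResolution.desc_commutes_zero f (injectiveResolution Y) (injectiveResolution X)⟩

/-- derived functors after composing with an exact functor, naturally -/
def postExact (F : A ⥤ B) [F.Additive] (G : B ⥤ D) [G.Additive] [PreservesFiniteLimits G]
    [PreservesFiniteColimits G] (n : ℕ) : (F ⋙ G).rightDerived n ≅ F.rightDerived n ⋙ G :=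
  NatIso.ofComponents (fun X => BigEt.rightDerivedCompExact F G n X) (fun {X Y} f => by
    obtain ⟨φ, hφ⟩ := exists_desc f
    have e₁ := InjectiveResolution.isoRightDerivedObj_hom_naturality f _ _ φ hφ (F ⋙ G) n
    have e₂ := InjectiveResolution.isoRightDerivedObj_inv_naturality f _ _ φ hφ F n
    have e₃ := ShortComplex.mapHomologyIso_hom_naturality
      ((HomologicalComplex.shortComplexFunctor B (ComplexShape.up ℕ) n).map
        ((F.mapHomologicalComplex (ComplexShape.up ℕ)).map φ)) G
    show ((F ⋙ G).rightDerived n).map f ≫ _ ≫ _ ≫ _ = (_ ≫ _ ≫ _) ≫ G.map _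
    rw [reassoc_of% e₁]
    simp only [Category.assoc]
    congr 1
    refine ((Category.assoc _ _ _).symm.trans (congrArg (· ≫ _) e₃)).trans ((Category.assoc _ _ _).trans (congrArg (_ ≫ ·) ?_))
    exact ((G.map_comp _ _).symm.trans (congrArg G.map e₂.symm)).trans (G.map_comp _ _))

/-- derived functors before composing with an exact functor preserving injectives, naturally -/
def preExact [HasInjectiveResolutions B] (F : A ⥤ B) [F.Additive] [PreservesFiniteLimits F]
    [PreservesFiniteColimits F] [F.PreservesInjectiveObjects] (G : B ⥤ D) [G.Additive] (n : ℕ) :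
    (F ⋙ G).rightDerived n ≅ F ⋙ G.rightDerived n :=
  NatIso.ofComponents (fun X => BigEt.rightDerivedExactComp F G n X) (fun {X Y} f => by
    obtain ⟨φ, hφ⟩ := exists_desc f
    have e₁ := InjectiveResolution.isoRightDerivedObj_hom_naturality f _ _ φ hφ (F ⋙ G) n
    have e₂ := InjectiveResolution.isoRightDerivedObj_inv_naturality (F.map f)
      (BigEt.mapRes F (injectiveResolution X)) (BigEt.mapRes F (injectiveResolution Y))
      ((F.mapHomologicalComplex (ComplexShape.up ℕ)).map φ) (by
        simp [BigEt.mapRes, ← Functor.map_comp, hφ]) G n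
    show ((F ⋙ G).rightDerived n).map f ≫ _ ≫ _ = (_ ≫ _) ≫ (G.rightDerived n).map (F.map f)
    rw [reassoc_of% e₁, Category.assoc]
    congr 1
    exact e₂.symm)

end Groth.Agent.RDerNat
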