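import Groth.Agent.SiteBase.ExtZero
import Groth.Agent.SiteBase.ModColimits
import Groth.Agent.SiteBase.ModGrothendieck
import Mathlib.CategoryTheory.Preadditive.Injective.Preserves

/-! # Restriction of sheaves of modules is exact and preserves injectives -/

set_option autoImplicit false
set_option linter.all false
set_option backward.isDefEq.respectTransparency false
set_option backward.defeqAttrib.useBackward true

universe u

open CategoryTheory Limits

namespace Groth.Agent.RDerNat

variable {C : Type u} [SmallCategory C] {J : GrothendieckTopology C} (O : Sheaf J CommRingCat.{u}) (U : C)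

theorem restr_preservesColimitsOfShape (K : Type u) [SmallCategory K] :
    PreservesColimitsOfShape K (ModSite.restr O U) := by
  haveI : PreservesColimitsOfShape K (SiteBase.restrP O U) := by
    haveI : PreservesColimitsOfShape K (SiteBase.restrP O U ⋙ PresheafOfModules.toPresheaf.{u} _) :=
      preservesColimitsOfShape_of_natIso
        (NatIso.ofComponents (fun _ => Iso.refl _) :
          PresheafOfModules.toPresheaf.{u} _ ⋙ (Functor.whiskeringLeft _ _ AddCommGrpCat.{u}).obj (Over.forget U).op ≅
            SiteBase.restrP O U ⋙ PresheafOfModules.toPresheaf.{u} _)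
    haveI : ReflectsColimitsOfShape K (PresheafOfModules.toPresheaf.{u} ((O.over U).obj ⋙ forget₂ CommRingCat.{u} RingCat.{u})) :=
      reflectsColimitsOfShape_of_reflectsIsomorphisms
    exact preservesColimitsOfShape_of_reflects_of_preserves (SiteBase.restrP O U) (PresheafOfModules.toPresheaf.{u} _)
  haveI : PreservesColimitsOfSize.{u, u} (SiteBase.sh (O.over U)) := (SiteBase.shAdj (O.over U)).leftAdjoint_preservesColimits
  haveI : PreservesColimitsOfShape K (SiteBase.sh O ⋙ ModSite.restr O U) :=
    preservesColimitsOfShape_of_natIso (SiteBase.shRestrIso O U)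
  exact SiteBase.preservesColimitsOfShape_of_reflective (SiteBase.shAdj O) _ K

theorem restr_preservesFiniteColimits : PreservesFiniteColimits (ModSite.restr O U) :=
  haveI : PreservesColimitsOfSize.{u, u} (ModSite.restr O U) := ⟨fun {K} _ => restr_preservesColimitsOfShape O U K⟩
  PreservesColimitsOfSize.preservesFiniteColimits.{u, u} _

theorem restr_preservesFiniteLimits : PreservesFiniteLimits (ModSite.restr O U) :=
  haveI : PreservesLimitsOfSize.{0, 0} (ModSite.restr O U) := (ModSite.extZeroAdj O U).rightAdjoint_preservesLimits
  PreservesLimitsOfSize.preservesFiniteLimits.{0, 0} _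

theorem restr_preservesInjectiveObjects : (ModSite.restr O U).PreservesInjectiveObjects :=
  haveI : (ModSite.extZero O U).PreservesMonomorphisms := SiteBase.extZero_preservesMonomorphisms O U
  Functor.preservesInjectiveObjects_of_adjunction_of_preservesMonomorphisms (ModSite.extZeroAdj O U)

end Groth.Agent.RDerNat
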