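import Groth.Agent.RDerNat.Basic
import Groth.Agent.RDerNat.Restr
import Groth.Agent.GrothSS.TotAcycSupp

/-! # Sections with support commute with localisation -/

set_option autoImplicit false
set_option linter.all false
set_option backward.isDefEq.respectTransparency false
set_option backward.defeqAttrib.useBackward true

noncomputable section

universe u

open CategoryTheory CategoryTheory.Limits Opposite

namespace Groth.Agent.RDerNat

variable {C : Type u} [SmallCategory C] {J : GrothendieckTopology C} (O : Sheaf J CommRingCat.{u})
  [HasBinaryProducts C] (U X : C)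
  [ModSite.HasPushOver (O.over X) (Over.mk (Limits.prod.snd : U ⨯ X ⟶ X))]

local notation "U'" => Over.mk (Limits.prod.snd : U ⨯ X ⟶ X)

lemma fwd_zero (M : ModSite.Mod O) :
    (ModSite.restr O X).map ((ModSite.sectOnι O U).app M) ≫
      (ModSite.restrPushOverAdj (O.over X) U').unit.app ((ModSite.restr O X).obj M) = 0 := by
  refine (GrothSS.restr_eq_zero_iff_unit U' _).1 ((SheafOfModules.toSheaf _).map_injective ?_)
  ext Y x
  exact GrothSS.ι_app_eq_zero U M (W := Y.unop.left.left) (Y.unop.hom.left ≫ Limits.prod.fst) x

lemma bwd_zero (M : ModSite.Mod O) :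
    (ModSite.sectOnι (O.over X) U').app ((ModSite.restr O X).obj M) ≫
      (ModSite.restr O X).map ((ModSite.restrPushOverAdj O U).unit.app M) = 0 := by
  refine (SheafOfModules.toSheaf _).map_injective ?_
  ext Y x
  let t : ModSite.sect M Y.unop.left :=
    ((ModSite.sectOnι (O.over X) U').app ((ModSite.restr O X).obj M)).val.app Y x
  have ht : GrothSS.Killed U (ModSite.toAb M) (V := Y.unop.left) t := fun W g k => by
    let Z : Over X := Over.mk (g ≫ Y.unop.hom)
    exact GrothSS.killed_ι U' ((ModSite.restr O X).obj M) (V := Y.unop) x (W := Z) (Over.homMk g rfl)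
      (Over.homMk (Limits.prod.lift k (g ≫ Y.unop.hom)) (by simp [Z]))
  obtain ⟨z, hz⟩ := GrothSS.exists_of_killed U M t ht
  show ((ModSite.restrPushOverAdj O U).unit.app M).val.app (op Y.unop.left) t = 0
  rw [← hz]
  exact congrArg (fun ψ : (ModSite.sectOn O U).obj M ⟶ (ModSite.pushOver O U).obj ((ModSite.restr O U).obj M) =>
    ψ.val.app (op Y.unop.left) z) (kernel.condition ((ModSite.restrPushOverAdj O U).unit.app M))

/-- sections with support commute with localisation -/
def sectRestrIso : ModSite.sectOn O U ⋙ ModSite.restr O X ≅ ModSite.restr O X ⋙ ModSite.sectOn (O.over X) U' :=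
  haveI := restr_preservesFiniteLimits O X
  NatIso.ofComponents
    (fun M =>
      { hom := kernel.lift _ ((ModSite.restr O X).map ((ModSite.sectOnι O U).app M)) (fwd_zero O U X M)
        inv := kernel.lift _ ((ModSite.sectOnι (O.over X) U').app ((ModSite.restr O X).obj M)) (bwd_zero O U X M) ≫
          inv (kernelComparison ((ModSite.restrPushOverAdj O U).unit.app M) (ModSite.restr O X))
        hom_inv_id := by
          rw [← Category.assoc, IsIso.comp_inv_eq, Category.id_comp]
          apply equalizer.hom_ext
          rw [Category.assoc]
          erw [kernel.lift_ι, kernel.lift_ι, kernelComparison_comp_ι]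
          rfl
        inv_hom_id := by
          rw [Category.assoc]
          apply equalizer.hom_ext
          simp only [Category.assoc]
          erw [kernel.lift_ι]
          have h : inv (kernelComparison ((ModSite.restrPushOverAdj O U).unit.app M) (ModSite.restr O X)) ≫
              (ModSite.restr O X).map ((ModSite.sectOnι O U).app M) = kernel.ι _ :=
            (IsIso.inv_comp_eq _).2 (kernelComparison_comp_ι _ _).symm
          erw [h, kernel.lift_ι]
          exact (Category.id_comp _).symm })
    (fun {M N} φ => by
      apply equalizer.hom_ext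
      show ((ModSite.restr O X).map ((ModSite.sectOn O U).map φ) ≫ kernel.lift _ _ _) ≫ kernel.ι _ =
        (kernel.lift _ _ _ ≫ (ModSite.sectOn (O.over X) U').map ((ModSite.restr O X).map φ)) ≫ kernel.ι _
      have e := (ModSite.sectOnι (O.over X) U').naturality ((ModSite.restr O X).map φ)
      rw [Category.assoc, Category.assoc, kernel.lift_ι]
      erw [e]
      rw [← Category.assoc]
      erw [kernel.lift_ι, ← Functor.map_comp, ← Functor.map_comp]
      exact congrArg (ModSite.restr O X).map ((ModSite.sectOnι O U).naturality φ))

theorem nonempty_HZsh_restr [HasInjectiveResolutions (ModSite.Mod O)]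
    [HasInjectiveResolutions (ModSite.Mod (O.over X))] (q : ℕ) :
    Nonempty (ModSite.HZsh O U q ⋙ ModSite.restr O X ≅
      ModSite.restr O X ⋙ ModSite.HZsh (O.over X) U' q) := by
  haveI := restr_preservesFiniteLimits O X
  haveI := restr_preservesFiniteColimits O X
  haveI := restr_preservesInjectiveObjects O X
  haveI : (ModSite.restr O X).Additive := Functor.additive_of_preserves_binary_products _
  exact ⟨(postExact (ModSite.sectOn O U) (ModSite.restr O X) q).symm ≪≫
    BigEt.rightDerivedCongr (sectRestrIso O U X) q ≪≫
      preExact (ModSite.restr O X) (ModSite.sectOn (O.over X) U') q⟩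

end Groth.Agent.RDerNat
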