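import Groth.Agent.RDerNat.Basic
import Groth.Agent.GrothSS.TotAcycSupp
import Groth.Agent.LocCohZLib.Derived
import Groth.Agent.SiteBase.ModGrothendieck
import Mathlib.Algebra.Category.ModuleCat.Sheaf.ChangeOfRings

/-! # Sections with support commute with restriction of scalars -/

set_option autoImplicit false
set_option linter.all false
set_option backward.isDefEq.respectTransparency false
set_option backward.defeqAttrib.useBackward true

noncomputable section

universe u

open CategoryTheory CategoryTheory.Limits Opposite

namespace Groth.Agent.RDerNat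

variable {C : Type u} [SmallCategory C] {J : GrothendieckTopology C} {O O' : Sheaf J CommRingCat.{u}}
  (φ : O ⟶ O') (U : C)

/-- restriction of scalars -/
abbrev scal : ModSite.Mod O' ⥤ ModSite.Mod O :=
  SheafOfModules.restrictScalars.{u} ((sheafCompose J (forget₂ CommRingCat.{u} RingCat.{u})).map φ)

/-- restriction of scalars does not change the abelian sheaf -/
def scalarsToSheaf : (scal φ) ⋙ SheafOfModules.toSheaf (ModSite.ringSh O) ≅ SheafOfModules.toSheaf (ModSite.ringSh O') :=
  NatIso.ofComponents (fun _ => Iso.refl _)

theorem scalars_preservesFiniteLimits : PreservesFiniteLimits (scal φ) where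
  preservesFiniteLimits K _ _ := by
    haveI : PreservesLimitsOfShape K ((scal φ) ⋙ SheafOfModules.toSheaf (ModSite.ringSh O)) :=
      preservesLimitsOfShape_of_natIso (scalarsToSheaf φ).symm
    haveI : ReflectsLimitsOfShape K (SheafOfModules.toSheaf.{u} (ModSite.ringSh O)) :=
      reflectsLimitsOfShape_of_reflectsIsomorphisms
    exact preservesLimitsOfShape_of_reflects_of_preserves (scal φ) (SheafOfModules.toSheaf (ModSite.ringSh O))

theorem scalars_preservesFiniteColimits : PreservesFiniteColimits (scal φ) where
  preservesFiniteColimits K _ _ := by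
    haveI : PreservesFiniteColimits (SheafOfModules.toSheaf.{u} (ModSite.ringSh O')) :=
      haveI : PreservesColimitsOfSize.{u, u} (SheafOfModules.toSheaf.{u} (ModSite.ringSh O')) := inferInstance
      PreservesColimitsOfSize.preservesFiniteColimits.{u, u} _
    haveI : PreservesFiniteColimits (SheafOfModules.toSheaf.{u} (ModSite.ringSh O)) :=
      haveI : PreservesColimitsOfSize.{u, u} (SheafOfModules.toSheaf.{u} (ModSite.ringSh O)) := inferInstance
      PreservesColimitsOfSize.preservesFiniteColimits.{u, u} _
    haveI : PreservesColimitsOfShape K ((scal φ) ⋙ SheafOfModules.toSheaf (ModSite.ringSh O)) :=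
      preservesColimitsOfShape_of_natIso (scalarsToSheaf φ).symm
    haveI : ReflectsColimitsOfShape K (SheafOfModules.toSheaf.{u} (ModSite.ringSh O)) :=
      reflectsColimitsOfShape_of_reflectsIsomorphisms
    exact preservesColimitsOfShape_of_reflects_of_preserves (scal φ) (SheafOfModules.toSheaf (ModSite.ringSh O))

variable [ModSite.HasPushOver O U] [ModSite.HasPushOver O' U]

lemma sfwd_zero (M : ModSite.Mod O') :
    (scal φ).map ((ModSite.sectOnι O' U).app M) ≫ (ModSite.restrPushOverAdj O U).unit.app ((scal φ).obj M) = 0 := by
  refine (GrothSS.restr_eq_zero_iff_unit U _).1 ((SheafOfModules.toSheaf _).map_injective ?_)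
  ext Y x
  exact GrothSS.ι_app_eq_zero U M (W := Y.unop.left) Y.unop.hom x

lemma sbwd_zero (M : ModSite.Mod O') :
    (ModSite.sectOnι O U).app ((scal φ).obj M) ≫ (scal φ).map ((ModSite.restrPushOverAdj O' U).unit.app M) = 0 := by
  refine (SheafOfModules.toSheaf _).map_injective ?_
  ext Y x
  let t : ModSite.sect M Y.unop := ((ModSite.sectOnι O U).app ((scal φ).obj M)).val.app Y x
  have ht : GrothSS.Killed U (ModSite.toAb M) (V := Y.unop) t := fun W g k =>
    GrothSS.killed_ι U ((scal φ).obj M) (V := Y.unop) x g k
  obtain ⟨z, hz⟩ := GrothSS.exists_of_killed U M t ht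
  show ((ModSite.restrPushOverAdj O' U).unit.app M).val.app (op Y.unop) t = 0
  rw [← hz]
  exact congrArg (fun ψ : (ModSite.sectOn O' U).obj M ⟶ (ModSite.pushOver O' U).obj ((ModSite.restr O' U).obj M) =>
    ψ.val.app (op Y.unop) z) (kernel.condition ((ModSite.restrPushOverAdj O' U).unit.app M))

/-- sections with support commute with restriction of scalars -/
def sectScalarsIso : ModSite.sectOn O' U ⋙ (scal φ) ≅ (scal φ) ⋙ ModSite.sectOn O U :=
  haveI := scalars_preservesFiniteLimits φ
  NatIso.ofComponents
    (fun M =>
      { hom := kernel.lift _ ((scal φ).map ((ModSite.sectOnι O' U).app M)) (sfwd_zero φ U M)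
        inv := kernel.lift _ ((ModSite.sectOnι O U).app ((scal φ).obj M)) (sbwd_zero φ U M) ≫
          inv (kernelComparison ((ModSite.restrPushOverAdj O' U).unit.app M) (scal φ))
        hom_inv_id := by
          rw [← Category.assoc, IsIso.comp_inv_eq, Category.id_comp]
          apply equalizer.hom_ext
          rw [Category.assoc]
          erw [kernel.lift_ι, kernel.lift_ι, kernelComparison_comp_ι]
          rfl
        inv_hom_id := by
          rw [Category.assoc]
          apply equalizer.hom_ext
          simp only [Category.assoc]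
          erw [kernel.lift_ι]
          have h : inv (kernelComparison ((ModSite.restrPushOverAdj O' U).unit.app M) (scal φ)) ≫
              (scal φ).map ((ModSite.sectOnι O' U).app M) = kernel.ι _ :=
            (IsIso.inv_comp_eq _).2 (kernelComparison_comp_ι _ _).symm
          erw [h, kernel.lift_ι]
          exact (Category.id_comp _).symm })
    (fun {M N} a => by
      apply equalizer.hom_ext
      show ((scal φ).map ((ModSite.sectOn O' U).map a) ≫ kernel.lift _ _ _) ≫ kernel.ι _ =
        (kernel.lift _ _ _ ≫ (ModSite.sectOn O U).map ((scal φ).map a)) ≫ kernel.ι _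
      have e := (ModSite.sectOnι O U).naturality ((scal φ).map a)
      rw [Category.assoc, Category.assoc, kernel.lift_ι]
      erw [e]
      rw [← Category.assoc]
      erw [kernel.lift_ι, ← Functor.map_comp, ← Functor.map_comp]
      exact congrArg (scal φ).map ((ModSite.sectOnι O' U).naturality a))

theorem nonempty_HZsh_scalars [HasInjectiveResolutions (ModSite.Mod O)]
    [HasInjectiveResolutions (ModSite.Mod O')] (q : ℕ) :
    Nonempty (ModSite.HZsh O' U q ⋙ (scal φ) ≅ (scal φ) ⋙ ModSite.HZsh O U q) := by
  haveI := scalars_preservesFiniteLimits φ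
  haveI := scalars_preservesFiniteColimits φ
  haveI : EnoughInjectives (ModSite.Mod O') := inferInstance
  haveI : PreservesLimitsOfSize.{0, 0} (ModSite.sectOn O U) := (GrothSS.quotSectAdj U).rightAdjoint_preservesLimits
  haveI : PreservesFiniteLimits (ModSite.sectOn O U) := PreservesLimitsOfSize.preservesFiniteLimits.{0, 0} _
  obtain ⟨e⟩ := LocCohZLib.nonempty_comp_rightDerived_iso (scal φ) (ModSite.sectOn O U) (fun I hI n =>
    GrothSS.isZero_HZsh_of_isTotallyAcyclic U ((scal φ).obj I)
      (show CohCx.IsTotallyAcyclic (ModSite.toAb I) from haveI := hI; CohAcyc.isTotallyAcyclic_injective I) n) q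
  exact ⟨(postExact (ModSite.sectOn O' U) (scal φ) q).symm ≪≫
    BigEt.rightDerivedCongr (sectScalarsIso φ U) q ≪≫ e⟩

end Groth.Agent.RDerNat
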